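import Groth.Agent.Lib.FppfSource.Ring
import Mathlib.AlgebraicGeometry.Morphisms.Smooth
import Mathlib.AlgebraicGeometry.Morphisms.Flat
import Mathlib.AlgebraicGeometry.Morphisms.UniversallyOpen

/-!
# Descent of properties of schemes along fppf surjections of the source
-/

set_option autoImplicit false

universe u

set_option backward.isDefEq.respectTransparency.types false

open CategoryTheory CategoryTheory.Limits AlgebraicGeometry MorphismProperty

namespace Groth.Agent.FppfSource

/-- Finitely many affine opens of the source of an open surjection onto a quasi-compact scheme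
already surject. -/
theorem exists_affine_open_surjective {W X : Scheme.{u}} (g : W ⟶ X) [Surjective g]
    (hopen : IsOpenMap g) [CompactSpace X] :
    ∃ (ι : Type u) (_ : Finite ι) (V : ι → W.Opens), (∀ i, IsAffineOpen (V i)) ∧
      Surjective (Sigma.desc fun i => (V i).ι ≫ g) := by
  let J := { U : W.Opens // IsAffineOpen U }
  have hcov : (Set.univ : Set X) ⊆ ⋃ U : J, g '' (U.1 : Set W) := by
    intro x _
    obtain ⟨w, rfl⟩ := g.surjective x
    obtain ⟨U, hU, hw, -⟩ := exists_isAffineOpen_mem_and_subset (X := W) (x := w) (U := ⊤) trivial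
    exact Set.mem_iUnion.2 ⟨⟨U, hU⟩, w, hw, rfl⟩
  obtain ⟨t, ht⟩ := isCompact_univ.elim_finite_subcover (fun U : J => g '' (U.1 : Set W))
    (fun U => hopen _ U.1.2) hcov
  refine ⟨{ U // U ∈ t }, inferInstance, fun U => U.1.1, fun U => U.1.2,
    Surjective.sigmaDesc_of_union_range_eq_univ (Set.eq_univ_iff_forall.2 fun x => ?_)⟩
  obtain ⟨U, hU, w, hw, rfl⟩ := Set.mem_iUnion₂.1 (ht (Set.mem_univ x))
  exact Set.mem_iUnion.2 ⟨⟨U, hU⟩, ⟨w, hw⟩, rfl⟩

/-- Descent along fppf surjections of the source from the corresponding fact about rings. -/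
theorem descends_fppf_surjective_of_ring (P : MorphismProperty Scheme.{u})
    {Q : ∀ {R S : Type u} [CommRing R] [CommRing S], (R →+* S) → Prop}
    [HasRingHomProperty P Q] [P.IsStableUnderBaseChange]
    (hQ : ∀ (A B C : Type u) [CommRing A] [CommRing B] [CommRing C] [Algebra A B] [Algebra B C]
      [Algebra A C] [IsScalarTower A B C] [Module.FaithfullyFlat B C] [Algebra.FinitePresentation B C],
      Q (algebraMap A C) → Q (algebraMap A B))
    {W X Y : Scheme.{u}} (g : W ⟶ X) (f : X ⟶ Y) (hg : Flat g) (hg' : LocallyOfFinitePresentation g)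
    (hs : Surjective g) (hgf : P (g ≫ f)) : P f := by
  -- reduce to an affine target
  wlog hY : IsAffine Y generalizing W X Y
  · refine IsZariskiLocalAtTarget.of_openCover (P := P) Y.affineCover fun i => ?_
    refine this (pullback.snd g (pullback.fst f (Y.affineCover.f i))) _
      (MorphismProperty.pullback_snd (P := @Flat) _ _ hg)
      (MorphismProperty.pullback_snd (P := @LocallyOfFinitePresentation) _ _ hg')
      (MorphismProperty.pullback_snd (P := @Surjective) _ _ hs) ?_ inferInstance
    exact MorphismProperty.of_isPullback (P := P)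
      (((IsPullback.of_hasPullback g (pullback.fst f (Y.affineCover.f i))).flip.paste_horiz
        (IsPullback.of_hasPullback f (Y.affineCover.f i)).flip).flip) hgf
  -- reduce to an affine source
  wlog hX : IsAffine X generalizing W X
  · refine IsZariskiLocalAtSource.of_openCover (P := P) X.affineCover fun i => ?_
    refine this (pullback.snd g (X.affineCover.f i)) _
      (MorphismProperty.pullback_snd (P := @Flat) _ _ hg)
      (MorphismProperty.pullback_snd (P := @LocallyOfFinitePresentation) _ _ hg')
      (MorphismProperty.pullback_snd (P := @Surjective) _ _ hs) ?_ inferInstance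
    rw [← Category.assoc, ← pullback.condition, Category.assoc]
    exact IsZariskiLocalAtSource.comp hgf _
  obtain ⟨ι, _, V, hV, hsurj⟩ := exists_affine_open_surjective g g.isOpenMap
  let d := Sigma.desc fun i => (V i).ι ≫ g
  have (i : ι) : IsAffine (V i).toScheme := hV i
  have hd : Flat d := IsZariskiLocalAtSource.sigmaDesc fun i => inferInstance
  have hd' : LocallyOfFinitePresentation d := IsZariskiLocalAtSource.sigmaDesc fun i => inferInstance
  have hdP : P (d ≫ f) := by
    have : d ≫ f = Sigma.desc (fun i => (V i).ι ≫ g ≫ f) := by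
      apply Sigma.hom_ext; intro i; simp [d]
    rw [this]
    exact IsZariskiLocalAtSource.sigmaDesc fun i => IsZariskiLocalAtSource.comp hgf _
  rw [HasRingHomProperty.iff_of_isAffine (P := P)] at hdP ⊢
  rw [Scheme.Hom.comp_appTop, CommRingCat.hom_comp] at hdP
  have hff : d.appTop.hom.FaithfullyFlat :=
    (Flat.flat_and_surjective_iff_faithfullyFlat_of_isAffine d).1 ⟨hd, hsurj⟩
  have hfp : d.appTop.hom.FinitePresentation :=
    HasRingHomProperty.appTop (P := @LocallyOfFinitePresentation) d hd'
  algebraize [f.appTop.hom, d.appTop.hom, d.appTop.hom.comp f.appTop.hom]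
  exact hQ _ _ _ hdP

theorem locallyOfFinitePresentation_of_fppf_comp {W X Y : Scheme.{u}} (g : W ⟶ X) (f : X ⟶ Y)
    [Surjective g] [Flat g] [LocallyOfFinitePresentation g] [LocallyOfFinitePresentation (g ≫ f)] :
    LocallyOfFinitePresentation f :=
  descends_fppf_surjective_of_ring @LocallyOfFinitePresentation
    (fun A B C _ _ _ _ _ _ _ _ _ h => by
      rw [RingHom.finitePresentation_algebraMap] at h ⊢
      exact finitePresentation_of_fppf A B C) g f inferInstance inferInstance inferInstance inferInstance

end Groth.Agent.FppfSource
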