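import Groth.Agent.Lib.AlgSpDescent.RingSource
import Groth.Agent.Lib.FlatH4.FlatDescent
import Groth.Agent.Lib.FlatH4.NoethApprox

/-!
# Finite type and finite presentation descend along faithfully flat finitely presented extensions
of the source

The proofs are those of `Groth.Agent.Lib.AlgSpDescent.RingSource` for smooth extensions, with the
model provided by the descent of flatness to a finite stage.
-/

set_option autoImplicit false

universe u

open TensorProduct

namespace Groth.Agent.FppfSource

open Groth.Agent.AlgSpDescent (exists_common_point exists_model_surjection exists_model_quotient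
  algebraMap_surjective_of_includeRight_surjective algebraMap_injective_of_includeRight_injective
  mem_map_ker_of_includeRight_eq_zero)

/-- A flat finitely presented algebra comes from one over a finitely generated subalgebra. -/
theorem exists_flat_model (A : Type*) (B C : Type u) [CommRing A] [CommRing B] [CommRing C] [Algebra A B]
    [Algebra B C] [Algebra.FinitePresentation B C] [Module.Flat B C] :
    ∃ (B₀ : Subalgebra A B) (C₀ : Type u) (_ : CommRing C₀) (_ : Algebra B₀ C₀),
      B₀.FG ∧ Algebra.FinitePresentation B₀ C₀ ∧ Module.Flat B₀ C₀ ∧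
        Nonempty (C ≃ₐ[B] B ⊗[B₀] C₀) := by
  classical
  obtain ⟨R, C₁, _, _, _, _, hR, hC₁, ⟨e⟩⟩ := Groth.Agent.FlatH4.exists_approx B C
  have : IsNoetherianRing R := Algebra.FiniteType.isNoetherianRing ℤ R
  have : Module.Flat B (B ⊗[R] C₁) := Module.Flat.of_linearEquiv e.toLinearEquiv
  obtain ⟨B', hB', hflat⟩ := Groth.Agent.FlatH4.exists_subalgebra_flat R B C₁ C₁
  have hfl := hflat B' le_rfl hB'
  obtain ⟨s, hs⟩ := hB'
  obtain ⟨t, ht⟩ := hR.out
  let B₀ : Subalgebra A B := Algebra.adjoin A (↑(s ∪ t.image (algebraMap R B)) : Set B)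
  have hRle : ∀ r : R, algebraMap R B r ∈ B₀ := by
    intro r
    have hr : r ∈ Algebra.adjoin ℤ (t : Set R) := ht ▸ Algebra.mem_top
    induction hr using Algebra.adjoin_induction with
    | mem x hx => exact Algebra.subset_adjoin (Finset.mem_coe.2 (Finset.mem_union_right _ (Finset.mem_image_of_mem _ hx)))
    | algebraMap n => simp only [eq_intCast, map_intCast]; exact B₀.intCast_mem n
    | add x y _ _ hx hy => rw [map_add]; exact add_mem hx hy
    | mul x y _ _ hx hy => rw [map_mul]; exact mul_mem hx hy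
  have hle : ∀ x : B, x ∈ B' → x ∈ B₀ := by
    intro x hx
    rw [← hs] at hx
    induction hx using Algebra.adjoin_induction with
    | mem x hx => exact Algebra.subset_adjoin (Finset.mem_coe.2 (Finset.mem_union_left _ hx))
    | algebraMap r => exact hRle r
    | add x y _ _ hx hy => exact add_mem hx hy
    | mul x y _ _ hx hy => exact mul_mem hx hy
  let : Algebra R B₀ := ((algebraMap R B).codRestrict B₀ hRle).toAlgebra
  let : Algebra B' B₀ := ((B'.val.toRingHom).codRestrict B₀ fun x => hle x.1 x.2).toAlgebra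
  have : IsScalarTower R B' B₀ := IsScalarTower.of_algebraMap_eq fun r => Subtype.ext rfl
  have : IsScalarTower R B₀ B := IsScalarTower.of_algebraMap_eq fun r => rfl
  have : Module.Flat B₀ (B₀ ⊗[R] C₁) :=
    Module.Flat.of_linearEquiv (Algebra.TensorProduct.cancelBaseChange R B' B₀ B₀ C₁).symm.toLinearEquiv
  exact ⟨B₀, B₀ ⊗[R] C₁, inferInstance, inferInstance, Subalgebra.fg_adjoin_finset _, inferInstance,
    inferInstance, ⟨e.symm.trans (Algebra.TensorProduct.cancelBaseChange R B₀ B B C₁).symm⟩⟩

section Locus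

variable (D C : Type u) [CommRing D] [CommRing C] [Algebra D C] [Algebra.FinitePresentation D C]
  [Module.Flat D C]

/-- The complement of the image of a flat algebra of finite presentation, as an ideal. -/
theorem exists_ideal_range_comap :
    ∃ I : Ideal D, ∀ p : PrimeSpectrum D,
      p ∈ Set.range (PrimeSpectrum.comap (algebraMap D C)) ↔ ¬ I ≤ p.asIdeal := by
  have hU : IsOpen (Set.range (PrimeSpectrum.comap (algebraMap D C))) :=
    (PrimeSpectrum.isOpenMap_comap_of_hasGoingDown_of_finitePresentation).isOpen_range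
  obtain ⟨I, hI⟩ := (PrimeSpectrum.isClosed_iff_zeroLocus_ideal _).1 hU.isClosed_compl
  refine ⟨I, fun p => ?_⟩
  have h := Set.ext_iff.1 hI p
  rw [Set.mem_compl_iff, PrimeSpectrum.mem_zeroLocus, SetLike.coe_subset_coe] at h
  rw [← h, not_not]

/-- A base change of a flat algebra of finite presentation is faithfully flat once the base avoids the complement of
the image. -/
theorem faithfullyFlat_baseChange {I : Ideal D}
    (hI : ∀ p : PrimeSpectrum D,
      p ∈ Set.range (PrimeSpectrum.comap (algebraMap D C)) ↔ ¬ I ≤ p.asIdeal)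
    (D' : Type u) [CommRing D'] [Algebra D D'] (htop : I.map (algebraMap D D') = ⊤) :
    Module.FaithfullyFlat D' (D' ⊗[D] C) := by
  refine Module.FaithfullyFlat.of_comap_surjective fun q => ?_
  obtain ⟨r, hr⟩ := (hI (PrimeSpectrum.comap (algebraMap D D') q)).2 fun h =>
    q.isPrime.ne_top (top_le_iff.1 (htop ▸ Ideal.map_le_iff_le_comap.2 h))
  obtain ⟨Ω, _, b, a, hb, hab⟩ := exists_common_point D C D' q r hr
  let _ := (b.comp (algebraMap D D')).toAlgebra
  let bA : D' →ₐ[D] Ω := { b with commutes' := fun x => rfl }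
  let aA : C →ₐ[D] Ω := { a with commutes' := fun x => (RingHom.congr_fun hab x).symm }
  let φ := (Algebra.TensorProduct.lift bA aA fun _ _ => Commute.all _ _).toRingHom
  refine ⟨⟨RingHom.ker φ, RingHom.ker_isPrime φ⟩, PrimeSpectrum.ext ?_⟩
  ext x
  have hx : φ (algebraMap D' (D' ⊗[D] C) x) = b x := by
    simp [φ, bA]
  simp only [PrimeSpectrum.comap_asIdeal, Ideal.mem_comap, RingHom.mem_ker, hx, ← hb]

/-- The complement of the image becomes the unit ideal in any algebra over which the base change is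
faithfully flat. -/
theorem map_eq_top_of_faithfullyFlat {I : Ideal D}
    (hI : ∀ p : PrimeSpectrum D,
      p ∈ Set.range (PrimeSpectrum.comap (algebraMap D C)) ↔ ¬ I ≤ p.asIdeal)
    (B : Type u) [CommRing B] [Algebra D B] [Module.FaithfullyFlat B (B ⊗[D] C)] :
    I.map (algebraMap D B) = ⊤ := by
  by_contra h
  obtain ⟨q, hq, hle⟩ := Ideal.exists_le_maximal _ h
  obtain ⟨r, hr⟩ := PrimeSpectrum.comap_surjective_of_faithfullyFlat
    (A := B) (B := B ⊗[D] C) ⟨q, hq.isPrime⟩
  refine (hI (PrimeSpectrum.comap (algebraMap D B) ⟨q, hq.isPrime⟩)).1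
    ⟨PrimeSpectrum.comap (Algebra.TensorProduct.includeRight (R := D) (A := B) (B := C)).toRingHom r,
      ?_⟩ (Ideal.map_le_iff_le_comap.1 hle)
  rw [← hr, ← PrimeSpectrum.comap_comp_apply, ← PrimeSpectrum.comap_comp_apply]
  congr 1
  exact (Algebra.TensorProduct.includeRight (R := D) (A := B) (B := C)).comp_algebraMap.trans
    (IsScalarTower.algebraMap_eq D B _)

end Locus

section Source

variable (A B C : Type u) [CommRing A] [CommRing B] [CommRing C] [Algebra A B] [Algebra B C]
  [Algebra A C] [IsScalarTower A B C] [Module.FaithfullyFlat B C]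

/-- Finite type descends along fppf extensions of the source. -/
theorem finiteType_of_fppf [Algebra.FinitePresentation B C] [Algebra.FiniteType A C] :
    Algebra.FiniteType A B := by
  classical
  obtain ⟨B₀, C₀, _, _, hB₀, hC₀, hflat₀, ⟨e⟩⟩ := exists_flat_model A B C
  obtain ⟨I, hI⟩ := exists_ideal_range_comap B₀ C₀
  have : Module.FaithfullyFlat B (B ⊗[B₀] C₀) :=
    Module.FaithfullyFlat.of_linearEquiv B C e.symm.toLinearEquiv
  have htop := map_eq_top_of_faithfullyFlat B₀ C₀ hI B
  obtain ⟨w, hw⟩ : ∃ w : ↥I →₀ B, w.sum (fun i b => b * (i.1 : B)) = 1 := by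
    have h1 : (1 : B) ∈ Submodule.span B (Set.range fun i : ↥I => (i.1 : B)) := by
      have : (1 : B) ∈ I.map (algebraMap B₀ B) := htop ▸ Submodule.mem_top
      rw [Ideal.map, Ideal.span] at this
      convert this using 2
      ext x
      simp [Subalgebra.algebraMap_eq]
    obtain ⟨w, hw⟩ := Finsupp.mem_span_range_iff_exists_finsupp.1 h1
    exact ⟨w, by simpa using hw⟩
  obtain ⟨s, hs⟩ := Algebra.FiniteType.out (R := A) (A := C)
  choose t ht using fun c : C => TensorProduct.exists_finset (e c)
  let gens : Finset B := (s.biUnion fun c => (t c).image Prod.fst) ∪ w.support.image w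
  let B₁ : Subalgebra A B := B₀ ⊔ Algebra.adjoin A (gens : Set B)
  have hB₁ : B₁.FG := hB₀.sup (Subalgebra.fg_adjoin_finset gens)
  have hle : B₀ ≤ B₁ := le_sup_left
  let _ : Algebra B₀ B₁ := (Subalgebra.inclusion hle).toRingHom.toAlgebra
  have : IsScalarTower B₀ B₁ B := .of_algebraMap_eq fun _ => rfl
  have htop₁ : I.map (algebraMap B₀ B₁) = ⊤ := by
    rw [Ideal.eq_top_iff_one]
    let w' : ↥I → B₁ := fun i => if h : i ∈ w.support then
      ⟨w i, le_sup_right (a := B₀) (Algebra.subset_adjoin (Finset.mem_coe.2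
        (Finset.mem_union_right _ (Finset.mem_image_of_mem w h))))⟩ else 0
    have : (1 : B₁) = ∑ i ∈ w.support, w' i * algebraMap B₀ B₁ i.1 := by
      apply Subtype.ext
      rw [AddSubmonoidClass.coe_finsetSum, OneMemClass.coe_one, ← hw]
      refine Finset.sum_congr rfl fun i hi => ?_
      rw [MulMemClass.coe_mul]
      simp only [w', dif_pos hi]
      rfl
    rw [this]
    exact Ideal.sum_mem _ fun i _ => Ideal.mul_mem_left _ _ (Ideal.mem_map_of_mem _ i.2)
  have := faithfullyFlat_baseChange B₀ C₀ hI B₁ htop₁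
  let e₁ : B ⊗[B₁] (B₁ ⊗[B₀] C₀) ≃ₐ[B] B ⊗[B₀] C₀ :=
    Algebra.TensorProduct.cancelBaseChange B₀ B₁ B B C₀
  have hsurj : Function.Surjective (Algebra.TensorProduct.includeRight :
      B₁ ⊗[B₀] C₀ →ₐ[B₁] B ⊗[B₁] (B₁ ⊗[B₀] C₀)) := by
    let φ : B₁ ⊗[B₀] C₀ →+* C := ((e₁.trans e.symm).toRingEquiv.toRingHom).comp
      (Algebra.TensorProduct.includeRight :
      B₁ ⊗[B₀] C₀ →ₐ[B₁] B ⊗[B₁] (B₁ ⊗[B₀] C₀)).toRingHom
    have hφ : ∀ (b : B₁) (c : C₀), φ (b ⊗ₜ c) = e.symm ((b : B) ⊗ₜ c) := by
      intro b c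
      simp [φ, e₁, Algebra.smul_def]
    have hA : ∀ a : A, algebraMap A C a ∈ φ.range := by
      intro a
      refine ⟨algebraMap A B₁ a ⊗ₜ 1, (hφ _ _).trans ?_⟩
      apply e.injective
      rw [e.apply_symm_apply, IsScalarTower.algebraMap_apply A B C, e.commutes,
        Algebra.TensorProduct.algebraMap_apply]
      rfl
    have hsC : ∀ c ∈ s, c ∈ φ.range := by
      intro c hc
      have : c = e.symm (∑ x ∈ t c, x.1 ⊗ₜ x.2) := by rw [← ht c, e.symm_apply_apply]
      rw [this, map_sum]
      refine Subring.sum_mem _ fun x hx => ?_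
      have hmem : x.1 ∈ B₁ := le_sup_right (a := B₀) (Algebra.subset_adjoin (Finset.mem_coe.2
        (Finset.mem_union_left _ (Finset.mem_biUnion.2
          ⟨c, hc, Finset.mem_image_of_mem _ hx⟩))))
      exact ⟨⟨x.1, hmem⟩ ⊗ₜ x.2, hφ _ _⟩
    intro x
    have hmem : ∀ y : C, y ∈ φ.range := fun y => by
      have : y ∈ Algebra.adjoin A (s : Set C) := hs ▸ Algebra.mem_top
      induction this using Algebra.adjoin_induction with
      | mem y hy => exact hsC y hy
      | algebraMap a => exact hA a
      | add y z _ _ hy hz => exact add_mem hy hz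
      | mul y z _ _ hy hz => exact mul_mem hy hz
    replace hmem := hmem ((e₁.trans e.symm) x)
    obtain ⟨y, hy⟩ := hmem
    exact ⟨y, (e₁.trans e.symm).injective hy⟩
  have hs₁ := algebraMap_surjective_of_includeRight_surjective hsurj
  refine ⟨?_⟩
  have : B₁ = ⊤ := Algebra.eq_top_iff.2 fun b => by
    obtain ⟨b', rfl⟩ := hs₁ b
    exact b'.2
  exact this ▸ hB₁

/-- Finite presentation descends along fppf extensions of the source. -/
theorem finitePresentation_of_fppf [Algebra.FinitePresentation B C]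
    [Algebra.FinitePresentation A C] : Algebra.FinitePresentation A B := by
  classical
  have := finiteType_of_fppf A B C
  obtain ⟨n, π, hπ⟩ := Algebra.FiniteType.iff_quotient_mvPolynomial''.1 this
  -- a model of `C` over a ring of finite type over `ℤ`
  obtain ⟨B₀, C₀, _, _, hB₀, hC₀, hflat₀, ⟨e⟩⟩ := exists_flat_model ℤ B C
  obtain ⟨D, _, _, _, _, _, _, _, hDB⟩ := exists_model_surjection A B π hπ B₀ hB₀
  let C₁ := D ⊗[B₀] C₀
  let e₁ : B ⊗[D] C₁ ≃ₐ[B] C :=
    (Algebra.TensorProduct.cancelBaseChange B₀ D B B C₀).trans e.symm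
  have : Module.FaithfullyFlat B (B ⊗[D] C₁) :=
    Module.FaithfullyFlat.of_linearEquiv B C e₁.toLinearEquiv
  -- the kernel of `C₁ → C` is finitely generated
  have : Algebra.FinitePresentation A C₁ := Algebra.FinitePresentation.trans A D C₁
  let θ : C₁ →ₐ[D] B ⊗[D] C₁ := Algebra.TensorProduct.includeRight
  have hθ : Function.Surjective θ := Algebra.TensorProduct.includeRight_surjective C₁ hDB
  have : Algebra.FinitePresentation A (B ⊗[D] C₁) :=
    Algebra.FinitePresentation.equiv ((e₁.restrictScalars A).symm)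
  obtain ⟨sgen, hsgen⟩ := Algebra.FinitePresentation.ker_fG_of_surjective (θ.restrictScalars A) hθ
  have hker : ∀ x, θ x = 0 →
      x ∈ (RingHom.ker (algebraMap D B)).map (algebraMap D C₁) :=
    fun x hx => mem_map_ker_of_includeRight_eq_zero hDB x hx
  have hfin : ∀ x ∈ sgen, ∃ T : Finset D, (T : Set D) ⊆ RingHom.ker (algebraMap D B) ∧
      x ∈ (Ideal.span (T : Set D)).map (algebraMap D C₁) := by
    intro x hx
    have hx' : x ∈ RingHom.ker θ.toRingHom :=
      (hsgen.le (Ideal.subset_span hx) : x ∈ RingHom.ker (θ.restrictScalars A).toRingHom)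
    replace hx' := hker x hx'
    rw [Ideal.map, Ideal.span] at hx'
    obtain ⟨T, hT, hxT⟩ := Submodule.mem_span_finite_of_mem_span hx'
    obtain ⟨T', hT', rfl⟩ := Finset.subset_set_image_iff.1 hT
    refine ⟨T', hT', ?_⟩
    rw [Ideal.map_span]
    simpa using hxT
  choose T hT hxT using hfin
  -- make the base change faithfully flat
  obtain ⟨I, hI⟩ := exists_ideal_range_comap D C₁
  have htop := map_eq_top_of_faithfullyFlat D C₁ hI B
  obtain ⟨d, hdI, hd⟩ : ∃ d ∈ I, algebraMap D B d = 1 :=
    (Ideal.mem_map_iff_of_surjective _ hDB).1 (htop ▸ Submodule.mem_top)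
  let K : Ideal D := Ideal.span {1 - d} ⊔
    ⨆ x : sgen, Ideal.span (T x.1 x.2 : Set D)
  have hK : K.FG := (Submodule.fg_span_singleton _).sup
    (Submodule.fg_iSup _ fun x => Submodule.fg_span (Finset.finite_toSet _))
  have hKle : K ≤ RingHom.ker (algebraMap D B) := sup_le
    (Ideal.span_le.2 (Set.singleton_subset_iff.2 (by simp [RingHom.mem_ker, hd])))
    (iSup_le fun x => Ideal.span_le.2 (hT x.1 x.2))
  obtain ⟨D', _, _, _, _, _, _, _, hDD', hKzero⟩ := exists_model_quotient A B D K hK hKle
  have htop' : I.map (algebraMap D D') = ⊤ := by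
    rw [Ideal.eq_top_iff_one]
    have : algebraMap D D' d = 1 := by
      have := hKzero (1 - d) (Ideal.mem_sup_left (Ideal.mem_span_singleton_self _))
      rw [map_sub, map_one, sub_eq_zero] at this
      exact this.symm
    exact this ▸ Ideal.mem_map_of_mem _ hdI
  have := faithfullyFlat_baseChange D C₁ hI D' htop'
  let C₂ := D' ⊗[D] C₁
  let e₂ : B ⊗[D'] C₂ ≃ₐ[B] B ⊗[D] C₁ := Algebra.TensorProduct.cancelBaseChange D D' B B C₁
  have hinj : Function.Injective
      (Algebra.TensorProduct.includeRight : C₂ →ₐ[D'] B ⊗[D'] C₂) := by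
    rw [injective_iff_map_eq_zero]
    intro y hy
    obtain ⟨x, rfl⟩ := Algebra.TensorProduct.includeRight_surjective C₁
      (R := D) (S := D') hDD' y
    have hx : θ x = 0 := by
      have h := congrArg e₂ hy
      rw [map_zero] at h
      rw [← h]
      simp only [Algebra.TensorProduct.includeRight_apply, e₂, θ]
      exact ((Algebra.TensorProduct.cancelBaseChange_tmul D D' B B C₁ (1 : B) (1 : D') x).trans
        (congrArg (· ⊗ₜ[D] x) (one_smul D' (1 : B)))).symm
    have hx' : x ∈ Ideal.span (sgen : Set C₁) := hsgen.ge hx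
    have hzero : ∀ k ∈ K,
        (Algebra.TensorProduct.includeRight : C₁ →ₐ[D] C₂) (algebraMap D C₁ k) = 0 := by
      intro k hk
      rw [AlgHom.commutes, Algebra.algebraMap_eq_smul_one, Algebra.TensorProduct.one_def,
        TensorProduct.smul_tmul', ← Algebra.algebraMap_eq_smul_one, hKzero k hk,
        TensorProduct.zero_tmul]
    let κ : Ideal C₁ :=
      RingHom.ker (Algebra.TensorProduct.includeRight : C₁ →ₐ[D] C₂).toRingHom
    have hle : Ideal.span (sgen : Set C₁) ≤ κ := by
      refine Ideal.span_le.2 fun z hz => ?_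
      have hmap : (Ideal.span (T z hz : Set D)).map (algebraMap D C₁) ≤ κ :=
        Ideal.map_le_iff_le_comap.2 fun k hk => RingHom.mem_ker.2
          (hzero k (Ideal.mem_sup_right
            (le_iSup (fun x : sgen => Ideal.span (T x.1 x.2 : Set D)) ⟨z, hz⟩ hk)))
      exact hmap (hxT z hz)
    exact hle hx'
  have h1 := algebraMap_injective_of_includeRight_injective hinj
  have h2 : Function.Surjective (algebraMap D' B) := fun b => by
    obtain ⟨x, rfl⟩ := hDB b
    exact ⟨algebraMap D D' x, (IsScalarTower.algebraMap_apply D D' B x).symm⟩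
  exact Algebra.FinitePresentation.equiv
    (AlgEquiv.ofBijective (IsScalarTower.toAlgHom A D' B) ⟨h1, h2⟩)

end Source

end Groth.Agent.FppfSource
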